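import Groth.Agent.Lib.BrnchNhd.Point
import Groth.Prelude.Def_Brnch

/-! # Branch numbers as suprema over étale neighbourhoods -/

set_option backward.isDefEq.respectTransparency false

universe u

open CategoryTheory AlgebraicGeometry

namespace GrothLib.BrnchNhd

open GrothLib.Hensel

variable {X : Scheme.{u}}

theorem residue_bijective_of_section {U : Scheme.{u}} {x : X} (g : U ⟶ X)
    (s : Spec (CommRingCat.of (X.residueField x : Type u)) ⟶ U) (hs : s ≫ g = X.fromSpecResidueField x) :
    g (s (IsLocalRing.closedPoint (X.residueField x))) = x ∧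
      Function.Bijective (g.residueFieldMap (s (IsLocalRing.closedPoint (X.residueField x)))) := by
  set v := s (IsLocalRing.closedPoint (X.residueField x))
  have hgv : g v = x := by
    rw [← Scheme.Hom.comp_apply, hs]
    exact Scheme.fromSpecResidueField_apply ..
  let σ : U.residueField v ⟶ X.residueField x :=
    U.descResidueField (Scheme.stalkClosedPointTo s)
  have hσ : Spec.map σ ≫ U.fromSpecResidueField v = s :=
    Scheme.descResidueField_stalkClosedPointTo_fromSpecResidueField (X.residueField x : Type u) U s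
  let a : X.residueField x ⟶ U.residueField v :=
    (X.residueFieldCongr hgv).inv ≫ g.residueFieldMap v
  have ha : a ≫ σ = 𝟙 _ := by
    apply Spec.map_injective
    rw [← cancel_mono (X.fromSpecResidueField x), Spec.map_comp, Spec.map_id, Category.id_comp,
      Category.assoc, Spec.map_comp, Category.assoc]
    rw [show (X.residueFieldCongr hgv).inv = (X.residueFieldCongr hgv.symm).hom from rfl,
      X.residueFieldCongr_fromSpecResidueField, g.SpecMap_residueFieldMap_fromSpecResidueField,
      ← Category.assoc, hσ, hs]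
  refine ⟨hgv, (g.residueFieldMap v).hom.injective, fun z ↦ ?_⟩
  refine ⟨(X.residueFieldCongr hgv).inv (σ z), σ.hom.injective ?_⟩
  exact ConcreteCategory.congr_hom ha (σ z)

theorem exists_section_of_residue_bijective {U : Scheme.{u}} {x : X} (g : U ⟶ X) (v : U)
    (hgv : g v = x) (hb : Function.Bijective (g.residueFieldMap v)) :
    ∃ s : Spec (CommRingCat.of (X.residueField x : Type u)) ⟶ U, s ≫ g = X.fromSpecResidueField x ∧
      s (IsLocalRing.closedPoint (X.residueField x : Type u)) = v := by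
  let e := RingEquiv.ofBijective (g.residueFieldMap v).hom hb
  let r : U.residueField v ⟶ X.residueField (g v) := CommRingCat.ofHom e.symm.toRingHom
  have hr : g.residueFieldMap v ≫ r = 𝟙 (X.residueField (g v)) :=
    CommRingCat.hom_ext (RingHom.ext fun z ↦ e.symm_apply_apply z)
  let r' : U.residueField v ⟶ X.residueField x := r ≫ (X.residueFieldCongr hgv).hom
  refine ⟨Spec.map r' ≫ U.fromSpecResidueField v, ?_, ?_⟩
  · rw [Category.assoc, ← g.SpecMap_residueFieldMap_fromSpecResidueField, ← Category.assoc,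
      ← Spec.map_comp]
    simp only [r', ← Category.assoc, hr, Category.id_comp]
    exact X.residueFieldCongr_fromSpecResidueField hgv
  · rw [Scheme.Hom.comp_apply]
    exact Scheme.fromSpecResidueField_apply ..

theorem numBranchesAt_eq (x : X) :
    Brnch.numBranchesAt X x =
      ⨆ (U : Scheme.{u}) (g : U ⟶ X) (u : U) (_ : Hens2.IsEtaleNbhd g u x),
        {Z : Set ↑U | Z ∈ irreducibleComponents ↑U ∧ u ∈ Z}.encard := by
  let A := X.presheaf.stalk x
  obtain ⟨p, hp, hcard, -⟩ := card_minimalPrimes_stalkHull x (IsLocalRing.ResidueField A)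
  have hp' : p = X.fromSpecResidueField x := by
    rw [hp, Algebra.algebraMap_self]
    exact Eq.trans (congrArg (· ≫ X.fromSpecResidueField x) (Spec.map_id _)) (Category.id_comp _)
  subst hp'
  show Brnch.numBranches A = _
  rw [← IsHenselization.card_minimalPrimes (A := A) (S := Hens A)]
  show ENat.card (minimalPrimes (Hull A (IsLocalRing.ResidueField A))) = _
  rw [hcard]
  refine le_antisymm (iSup_le fun U ↦ iSup_le fun g ↦ iSup_le fun s ↦ iSup_le fun h ↦ ?_)
    (iSup_le fun U ↦ iSup_le fun g ↦ iSup_le fun v ↦ iSup_le fun h ↦ ?_)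
  · obtain ⟨h1, h2⟩ := residue_bijective_of_section g s h.2
    exact le_iSup_of_le U (le_iSup_of_le g (le_iSup_of_le _ (le_iSup_of_le ⟨h.1, h1, h2⟩ le_rfl)))
  · obtain ⟨s, hs, rfl⟩ := exists_section_of_residue_bijective g v h.base_eq h.residue_bijective
    exact le_iSup_of_le U (le_iSup_of_le g (le_iSup_of_le s (le_iSup_of_le ⟨h.etale, hs⟩ le_rfl)))

theorem numGeomBranchesAt_eq (x : X) :
    Brnch.numGeomBranchesAt X x =
      ⨆ (U : Scheme.{u}) (g : U ⟶ X) (u : U) (_ : Etale g ∧ g u = x),
        {Z : Set ↑U | Z ∈ irreducibleComponents ↑U ∧ u ∈ Z}.encard := by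
  let A := X.presheaf.stalk x
  let C := SeparableClosure (IsLocalRing.ResidueField A)
  obtain ⟨p, hp, hcard, hlift⟩ := card_minimalPrimes_stalkHull x C
  have hpx : ∀ t : Spec (CommRingCat.of C), p t = x := fun t ↦ by
    rw [hp, Scheme.Hom.comp_apply]
    exact Scheme.fromSpecResidueField_apply ..
  show Brnch.numGeomBranches A = _
  rw [← IsStrictHenselization.card_minimalPrimes (A := A) (S := StrictHens A)]
  show ENat.card (minimalPrimes (Hull A C)) = _
  rw [hcard]
  refine le_antisymm (iSup_le fun U ↦ iSup_le fun g ↦ iSup_le fun s ↦ iSup_le fun h ↦ ?_)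
    (iSup_le fun U ↦ iSup_le fun g ↦ iSup_le fun v ↦ iSup_le fun h ↦ ?_)
  · refine le_iSup_of_le U (le_iSup_of_le g (le_iSup_of_le _ (le_iSup_of_le ⟨h.1, ?_⟩ le_rfl)))
    rw [← Scheme.Hom.comp_apply, h.2]
    exact hpx _
  · obtain ⟨s, hs, rfl⟩ := hlift inferInstance g h.1 v h.2
    exact le_iSup_of_le U (le_iSup_of_le g (le_iSup_of_le s (le_iSup_of_le ⟨h.1, hs⟩ le_rfl)))

theorem one_le_encard_components {U : Scheme.{u}} (v : U) :
    1 ≤ {Z : Set ↑U | Z ∈ irreducibleComponents ↑U ∧ v ∈ Z}.encard :=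
  Set.one_le_encard_iff_nonempty.mpr ⟨irreducibleComponent v,
    irreducibleComponent_mem_irreducibleComponents v, mem_irreducibleComponent⟩

theorem isUnibranch_stalk_iff (x : X) :
    CAlg2.IsUnibranch ↑(X.presheaf.stalk x) ↔ ∀ (U : Scheme.{u}) (g : U ⟶ X) (u : U),
      Hens2.IsEtaleNbhd g u x →
        {Z : Set ↑U | Z ∈ irreducibleComponents ↑U ∧ u ∈ Z}.encard = 1 := by
  rw [← numBranches_eq_one_iff]
  show Brnch.numBranchesAt X x = 1 ↔ _
  rw [numBranchesAt_eq]
  refine ⟨fun h U g v hv ↦ le_antisymm (h ▸ le_iSup_of_le U (le_iSup_of_le g (le_iSup_of_le v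
    (le_iSup_of_le hv le_rfl)))) (one_le_encard_components v), fun h ↦ le_antisymm
    (iSup_le fun U ↦ iSup_le fun g ↦ iSup_le fun v ↦ iSup_le fun hv ↦ (h U g v hv).le) ?_⟩
  have hid : Hens2.IsEtaleNbhd (𝟙 X) x x := ⟨inferInstance, rfl, by
    rw [Scheme.residueFieldMap_id]; exact Function.bijective_id⟩
  exact le_iSup_of_le X (le_iSup_of_le (𝟙 X) (le_iSup_of_le x
    (le_iSup_of_le hid (one_le_encard_components x))))

theorem isGeomUnibranch_stalk_iff (x : X) :
    CAlg2.IsGeomUnibranch ↑(X.presheaf.stalk x) ↔ ∀ (U : Scheme.{u}) (g : U ⟶ X) (u : U),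
      Etale g → g u = x →
        {Z : Set ↑U | Z ∈ irreducibleComponents ↑U ∧ u ∈ Z}.encard = 1 := by
  rw [← numGeomBranches_eq_one_iff]
  show Brnch.numGeomBranchesAt X x = 1 ↔ _
  rw [numGeomBranchesAt_eq]
  refine ⟨fun h U g v hg hv ↦ le_antisymm (h ▸ le_iSup_of_le U (le_iSup_of_le g (le_iSup_of_le v
    (le_iSup_of_le ⟨hg, hv⟩ le_rfl)))) (one_le_encard_components v), fun h ↦ le_antisymm
    (iSup_le fun U ↦ iSup_le fun g ↦ iSup_le fun v ↦ iSup_le fun hv ↦ (h U g v hv.1 hv.2).le) ?_⟩
  exact le_iSup_of_le X (le_iSup_of_le (𝟙 X) (le_iSup_of_le x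
    (le_iSup_of_le ⟨inferInstance, rfl⟩ (one_le_encard_components x))))

end GrothLib.BrnchNhd
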