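import Groth.Agent.Lib.Hensel.Unibranch

/-! # Branch numbers are invariant under ring isomorphisms -/

set_option backward.isDefEq.respectTransparency false

universe u

open IsLocalRing

namespace GrothLib.BrnchNhd

open GrothLib.Hensel

theorem isGeomUnibranch_of_ringEquiv {A B : Type u} [CommRing A] [IsLocalRing A] [CommRing B]
    [IsLocalRing B] (e : A ≃+* B) (h : CAlg2.IsGeomUnibranch A) : CAlg2.IsGeomUnibranch B := by
  let S := StrictHens B
  letI : Algebra A S := ((algebraMap B S).comp e.toRingHom).toAlgebra
  haveI : IsLocalHom (algebraMap A S) := ⟨fun a ha ↦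
    (MulEquiv.isUnit_map e).mp (isUnit_of_map_unit (algebraMap B S) _ ha)⟩
  have hB : _root_.Hensel.IsStrictHenselization B S := inferInstance
  haveI : _root_.Hensel.IsStrictHenselization A S := by
    refine ⟨hB.henselian, ?_, fun T _ _ f hf τ hτ ↦ ?_⟩
    · haveI := hB.isSepClosure
      haveI : IsSepClosed (ResidueField S) := IsSepClosure.sep_closed (ResidueField B)
      haveI : Algebra.IsSeparable (ResidueField B) (ResidueField S) := IsSepClosure.separable
      refine ⟨inferInstance, Algebra.IsSeparable.of_equiv_equiv (ResidueField.mapEquiv e).symm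
        (RingEquiv.refl (ResidueField S)) ?_⟩
      refine Ideal.Quotient.ringHom_ext (RingHom.ext fun b ↦ ?_)
      show residue S (algebraMap A S (e.symm b)) = residue S (algebraMap B S b)
      show residue S (algebraMap B S (e (e.symm b))) = _
      rw [e.apply_symm_apply]
    · haveI : IsLocalHom (f.comp e.symm.toRingHom) := ⟨fun b hb ↦
        (MulEquiv.isUnit_map e.symm).mp (hf.map_nonunit _ hb)⟩
      obtain ⟨g, ⟨hg1, hg2⟩, huniq⟩ := hB.universal T (f.comp e.symm.toRingHom) τ (by
        refine Ideal.Quotient.ringHom_ext (RingHom.ext fun b ↦ ?_)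
        show τ (residue S (algebraMap B S b)) = residue T (f (e.symm b))
        have := RingHom.congr_fun hτ (residue A (e.symm b))
        change τ (residue S (algebraMap B S (e (e.symm b)))) = residue T (f (e.symm b)) at this
        rwa [e.apply_symm_apply] at this)
      refine ⟨g, ⟨?_, hg2⟩, fun g' hg' ↦ huniq g' ⟨?_, hg'.2⟩⟩
      · ext a
        show g (algebraMap B S (e a)) = f a
        have := RingHom.congr_fun hg1 (e a)
        change g (algebraMap B S (e a)) = f (e.symm (e a)) at this
        rwa [e.symm_apply_apply] at this
      · ext b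
        show g' (algebraMap B S b) = f (e.symm b)
        have := RingHom.congr_fun hg'.1 (e.symm b)
        change g' (algebraMap B S (e (e.symm b))) = f (e.symm b) at this
        rwa [e.apply_symm_apply] at this
  rw [← numGeomBranches_eq_one_iff, ← IsStrictHenselization.card_minimalPrimes (A := B) (S := S),
    IsStrictHenselization.card_minimalPrimes (A := A) (S := S), numGeomBranches_eq_one_iff]
  exact h

end GrothLib.BrnchNhd
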