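import Groth.Agent.Lib.BrnchNhd.Main
import Groth.Agent.Lib.Unibranch.Unramified
import Groth.Agent.Lib.FEt21.Spread
import Mathlib.AlgebraicGeometry.Morphisms.Flat

/-! # Geometrically unibranch points of étale schemes -/

set_option backward.isDefEq.respectTransparency false

universe u

open CategoryTheory CategoryTheory.Limits AlgebraicGeometry

namespace GrothLib.BrnchNhd

variable {X Y : Scheme.{u}}

theorem isReduced_stalk_of_etale (f : X ⟶ Y) [Etale f] (x : X)
    [_root_.IsReduced (Y.presheaf.stalk (f x))] : _root_.IsReduced (X.presheaf.stalk x) := by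
  let s := Y.fromSpecStalk (f x)
  haveI : Flat s := GrothLib.FEt21.flat_fromSpecStalk (f x)
  haveI : AlgebraicGeometry.IsReduced (pullback f s) :=
    GrothLib.Unibranch.isReduced_of_etale (pullback.snd f s)
  obtain ⟨q, hq⟩ : x ∈ Set.range (pullback.fst f s) := by
    rw [Scheme.Pullback.range_fst, Scheme.range_fromSpecStalk]
    exact specializes_rfl
  have hflat : ((pullback.fst f s).stalkMap q).hom.Flat := Flat.stalkMap _ q
  algebraize [((pullback.fst f s).stalkMap q).hom]
  haveI : IsLocalHom (algebraMap (X.presheaf.stalk (pullback.fst f s q))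
      ((pullback f s).presheaf.stalk q)) :=
    inferInstanceAs (IsLocalHom ((pullback.fst f s).stalkMap q).hom)
  haveI := Module.FaithfullyFlat.of_flat_of_isLocalHom
    (A := X.presheaf.stalk (pullback.fst f s q)) (B := (pullback f s).presheaf.stalk q)
  haveI : _root_.IsReduced (X.presheaf.stalk (pullback.fst f s q)) :=
    isReduced_of_injective ((pullback.fst f s).stalkMap q).hom (FaithfulSMul.algebraMap_injective _ _)
  exact isReduced_of_injective
    (X.presheaf.stalkCongr (.of_eq hq)).commRingCatIsoToRingEquiv.symm.toRingHom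
    (RingEquiv.injective _)

theorem isDomain_stalk_of_isReduced_of_isUnibranch {x : X}
    [_root_.IsReduced (X.presheaf.stalk x)] (h : CAlg2.IsUnibranch (X.presheaf.stalk x)) :
    IsDomain (X.presheaf.stalk x) := by
  have hd : IsDomain (X.presheaf.stalk x ⧸ nilradical (X.presheaf.stalk x)) := h.1
  rw [nilradical_eq_zero] at hd
  exact (RingEquiv.quotientBot (X.presheaf.stalk x)).symm.toMulEquiv.isDomain

theorem isGeomUnibranch_stalk_of_etale (f : X ⟶ Y) [Etale f] (x : X)
    (hY : CAlg2.IsGeomUnibranch (Y.presheaf.stalk (f x))) :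
    CAlg2.IsGeomUnibranch (X.presheaf.stalk x) := by
  rw [isGeomUnibranch_stalk_iff]
  intro W g w hg hw
  subst hw
  refine le_antisymm ?_ (one_le_encard_components w)
  rw [encard_components_eq, Set.encard_le_one_iff]
  rintro η₁ η₂ h₁ h₂
  exact GrothLib.Unibranch.eq_of_maximal_of_etale (g ≫ f) w hY η₁ η₂ h₁.1 h₂.1 h₁.2 h₂.2

theorem isDomain_and_isGeomUnibranch_of_etale (f : X ⟶ Y) [Etale f] (x : X)
    [IsDomain (Y.presheaf.stalk (f x))] (hY : CAlg2.IsGeomUnibranch (Y.presheaf.stalk (f x))) :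
    IsDomain (X.presheaf.stalk x) ∧ CAlg2.IsGeomUnibranch (X.presheaf.stalk x) := by
  haveI := isReduced_stalk_of_etale f x
  have h := isGeomUnibranch_stalk_of_etale f x hY
  exact ⟨isDomain_stalk_of_isReduced_of_isUnibranch h.1, h⟩

theorem isDomain_and_isGeomUnibranch_of_etale_nhd (f : X ⟶ Y) (x : X) (U : X.Opens) (hxU : x ∈ U)
    [Etale (U.ι ≫ f)] (hd : IsDomain (Y.presheaf.stalk (f x)))
    (hY : CAlg2.IsGeomUnibranch (Y.presheaf.stalk (f x))) :
    IsDomain (X.presheaf.stalk x) ∧ CAlg2.IsGeomUnibranch (X.presheaf.stalk x) := by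
  haveI : IsDomain (Y.presheaf.stalk ((U.ι ≫ f) ⟨x, hxU⟩)) := hd
  haveI : _root_.IsReduced ((U : Scheme.{u}).presheaf.stalk ⟨x, hxU⟩) :=
    isReduced_stalk_of_etale (U.ι ≫ f) ⟨x, hxU⟩
  haveI : _root_.IsReduced (X.presheaf.stalk x) :=
    isReduced_of_injective (U.stalkIso ⟨x, hxU⟩).commRingCatIsoToRingEquiv.symm.toRingHom
      (RingEquiv.injective _)
  have h : CAlg2.IsGeomUnibranch (X.presheaf.stalk x) := by
    rw [isGeomUnibranch_stalk_iff]
    intro W g w hg hw
    refine le_antisymm ?_ (one_le_encard_components w)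
    let W' : W.Opens := g ⁻¹ᵁ U
    have hwU : w ∈ W' := by show g w ∈ U; rw [hw]; exact hxU
    haveI : Etale (W'.ι ≫ g ≫ f) := by
      rw [show W'.ι ≫ g ≫ f = (g ∣_ U) ≫ (U.ι ≫ f) by
        rw [← Category.assoc (g ∣_ U), morphismRestrict_ι, Category.assoc]]
      infer_instance
    rw [encard_components_eq, show w = W'.ι ⟨w, hwU⟩ from rfl,
      ← encard_maxGen_openImmersion, Set.encard_le_one_iff]
    rintro η₁ η₂ h₁ h₂
    refine GrothLib.Unibranch.eq_of_maximal_of_etale (W'.ι ≫ g ≫ f) ⟨w, hwU⟩ ?_ η₁ η₂ h₁.1 h₂.1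
      h₁.2 h₂.2
    show CAlg2.IsGeomUnibranch (Y.presheaf.stalk (f (g w)))
    rw [hw]
    exact hY
  exact ⟨isDomain_stalk_of_isReduced_of_isUnibranch h.1, h⟩

end GrothLib.BrnchNhd
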