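import Groth.Agent.Lib.Unibranch.Points
import Mathlib.Data.Set.Card

/-! # Components through a point as maximal generizations -/

universe u

open CategoryTheory AlgebraicGeometry Topology

namespace GrothLib.BrnchNhd

theorem encard_eq_of_bijOn {α β : Type*} {f : α → β} {s : Set α} {t : Set β} (h : Set.BijOn f s t) :
    s.encard = t.encard := by
  rw [← h.image_eq, h.injOn.encard_image]

/-- The maximal generizations of a point. -/
def maxGen {U : Scheme.{u}} (u : U) : Set U :=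
  {ζ | ζ ⤳ u ∧ ∀ z, z ⤳ ζ → z = ζ}

theorem encard_components_eq {U : Scheme.{u}} (u : U) :
    {Z : Set U | Z ∈ irreducibleComponents U ∧ u ∈ Z}.encard = (maxGen u).encard := by
  refine (encard_eq_of_bijOn (f := fun ζ : U ↦ closure ({ζ} : Set U)) ⟨fun ζ hζ ↦ ?_, ?_, ?_⟩).symm
  · exact ⟨GrothLib.Unibranch.isGenericPoint_of_maximal ζ hζ.2, hζ.1.mem_closure⟩
  · intro a _ b _ h
    exact (isGenericPoint_closure : IsGenericPoint a (closure {a})).eq
      (show IsGenericPoint b (closure {a}) from h.symm)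
  · rintro Z ⟨hZ, hu⟩
    obtain ⟨ξ, hξ⟩ := QuasiSober.sober hZ.1 (isClosed_of_mem_irreducibleComponents Z hZ)
    exact ⟨ξ, ⟨hξ.specializes hu, GrothLib.Unibranch.maximal_of_isGenericPoint hZ hξ⟩, hξ⟩

theorem encard_maxGen_openImmersion {U U' : Scheme.{u}} (j : U' ⟶ U) [IsOpenImmersion j] (w : U') :
    (maxGen w).encard = (maxGen (j w)).encard := by
  refine encard_eq_of_bijOn (f := j) ⟨fun ζ hζ ↦ ⟨hζ.1.map j.continuous, fun z hz ↦ ?_⟩,
    j.isOpenEmbedding.injective.injOn, ?_⟩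
  · obtain ⟨z, rfl⟩ : z ∈ Set.range j :=
      hz.mem_open j.isOpenEmbedding.isOpen_range ⟨ζ, rfl⟩
    rw [hζ.2 z (j.isOpenEmbedding.isInducing.specializes_iff.mp hz)]
  · rintro z ⟨hz, hzm⟩
    obtain ⟨ζ, rfl⟩ : z ∈ Set.range j := hz.mem_open j.isOpenEmbedding.isOpen_range ⟨w, rfl⟩
    exact ⟨ζ, ⟨j.isOpenEmbedding.isInducing.specializes_iff.mp hz,
      fun z' hz' ↦ j.isOpenEmbedding.injective (hzm _ (hz'.map j.continuous))⟩, rfl⟩

theorem encard_maxGen_spec {A : CommRingCat.{u}} (q : Spec A) :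
    (maxGen q).encard =
      {p : Ideal A | p ∈ minimalPrimes A ∧ p ≤ (q : PrimeSpectrum A).asIdeal}.encard := by
  refine encard_eq_of_bijOn (f := fun P : Spec A ↦ (P : PrimeSpectrum A).asIdeal)
    ⟨fun P hP ↦ ?_, fun a _ b _ h ↦ PrimeSpectrum.ext h, ?_⟩
  · refine ⟨⟨⟨(P : PrimeSpectrum A).2, bot_le⟩, fun Q hQ hle ↦ ?_⟩,
      (PrimeSpectrum.le_iff_specializes _ _).mpr hP.1⟩
    have hs : (⟨Q, hQ.1⟩ : PrimeSpectrum A) ⤳ P := (PrimeSpectrum.le_iff_specializes _ _).mp hle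
    exact (congrArg PrimeSpectrum.asIdeal (hP.2 _ hs)).ge
  · rintro p ⟨hp, hle⟩
    refine ⟨(⟨p, hp.1.1⟩ : PrimeSpectrum A), ⟨(PrimeSpectrum.le_iff_specializes _ _).mp hle,
      fun z hz ↦ ?_⟩, rfl⟩
    have h : (z : PrimeSpectrum A).asIdeal ≤ p := (PrimeSpectrum.le_iff_specializes _ _).mpr hz
    exact PrimeSpectrum.ext (le_antisymm h (hp.2 ⟨(z : PrimeSpectrum A).2, bot_le⟩ h))

end GrothLib.BrnchNhd
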