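import Groth.Agent.Lib.Hensel.LocalHull
import Mathlib.RingTheory.Localization.AtPrime.Basic
import Mathlib.RingTheory.Ideal.Quotient.Operations

/-! # Henselization hulls may be formed before localizing -/

universe u

namespace GrothLib.BrnchNhd

open GrothLib.Hensel

theorem mkₐ_eq_symm_iff {R B C : Type*} [CommRing R] [CommRing B] [CommRing C] [Algebra R B]
    [Algebra R C] (f : B →ₐ[R] C) (hf : Function.Surjective f) (b : B) (c : C) :
    Ideal.Quotient.mkₐ R (RingHom.ker f.toRingHom) b =
      (Ideal.quotientKerAlgEquivOfSurjective hf).symm c ↔ f b = c := by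
  constructor
  · intro h
    have := congrArg (Ideal.quotientKerAlgEquivOfSurjective hf) h
    rwa [AlgEquiv.apply_symm_apply] at this
  · intro h
    apply (Ideal.quotientKerAlgEquivOfSurjective hf).injective
    rwa [AlgEquiv.apply_symm_apply]

/-- The hull of a ring along a field valued point does not change under localization at the
kernel of the point. -/
theorem exists_hull_localization_equiv {R A C : Type u} [CommRing R] [CommRing A] [Field C]
    [Algebra R A] [Algebra R C] [Algebra A C] [IsScalarTower R A C] (M : Submonoid R)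
    [IsLocalization M A] (hA : Function.Surjective (Hull.proj : Hull A C →ₐ[A] C))
    (hR : Function.Surjective (Hull.proj : Hull R C →ₐ[R] C)) :
    Nonempty (Hull A C ≃+* Hull R C) := by
  letI : Algebra R (Hull A C) :=
    ((algebraMap A (Hull A C)).comp (algebraMap R A)).toAlgebra
  haveI : IsScalarTower R A (Hull A C) := .of_algebraMap_eq fun _ ↦ rfl
  have hM : ∀ s : M, IsUnit (algebraMap R (Hull R C) s) := fun s ↦ by
    refine Hull.isUnit_of_isUnit_proj ?_
    rw [AlgHom.commutes, IsScalarTower.algebraMap_apply R A C]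
    exact (IsLocalization.map_units A s).map _
  letI : Algebra A (Hull R C) := (IsLocalization.lift hM).toAlgebra
  haveI : IsScalarTower R A (Hull R C) :=
    .of_algebraMap_eq fun r ↦ (IsLocalization.lift_eq hM r).symm
  let pA : Hull A C →ₐ[A] C := Hull.proj
  let pR : Hull R C →ₐ[R] C := Hull.proj
  let pA' : Hull A C →ₐ[R] C := pA.restrictScalars R
  let pR' : Hull R C →ₐ[A] C :=
    { pR.toRingHom with
      commutes' := RingHom.congr_fun <| IsLocalization.ringHom_ext M
        (j := pR.toRingHom.comp (algebraMap A (Hull R C))) (k := algebraMap A C) <|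
        RingHom.ext fun r ↦ by
          show pR (algebraMap A (Hull R C) (algebraMap R A r)) = algebraMap A C (algebraMap R A r)
          rw [← IsScalarTower.algebraMap_apply, ← IsScalarTower.algebraMap_apply, AlgHom.commutes] }
  haveI : HenselianRing (Hull R C) (RingHom.ker pR'.toRingHom) := Hull.henselianRing
  haveI : HenselianRing (Hull A C) (RingHom.ker pA'.toRingHom) := Hull.henselianRing
  obtain ⟨g, hg, -⟩ := Hull.existsUnique_lift (A := A) (RingHom.ker pR'.toRingHom)
    ((Ideal.quotientKerAlgEquivOfSurjective (f := pR') hR).symm.toAlgHom)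
  obtain ⟨f, hf, -⟩ := Hull.existsUnique_lift (A := R) (RingHom.ker pA'.toRingHom)
    ((Ideal.quotientKerAlgEquivOfSurjective (f := pA') hA).symm.toAlgHom)
  have hg' : ∀ x, pR (g x) = pA x := fun x ↦
    (mkₐ_eq_symm_iff pR' hR _ _).mp (AlgHom.congr_fun hg x)
  have hf' : ∀ x, pA (f x) = pR x := fun x ↦
    (mkₐ_eq_symm_iff pA' hA _ _).mp (AlgHom.congr_fun hf x)
  have h1 : (g.restrictScalars R).comp f = AlgHom.id R _ := by
    refine (Hull.existsUnique_lift (A := R) (RingHom.ker pR'.toRingHom)
      ((Ideal.quotientKerAlgEquivOfSurjective (f := pR'.restrictScalars R) hR).symm.toAlgHom)).unique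
      ?_ ?_ <;>
    · refine AlgHom.ext fun x ↦ (mkₐ_eq_symm_iff (pR'.restrictScalars R) hR _ _).mpr ?_
      first | exact (hg' _).trans (hf' x) | rfl
  let fA : Hull R C →ₐ[A] Hull A C :=
    { f.toRingHom with
      commutes' := RingHom.congr_fun <| IsLocalization.ringHom_ext M
        (j := f.toRingHom.comp (algebraMap A (Hull R C))) (k := algebraMap A (Hull A C)) <|
        RingHom.ext fun r ↦ by
          show f (algebraMap A (Hull R C) (algebraMap R A r)) =
            algebraMap A (Hull A C) (algebraMap R A r)
          rw [← IsScalarTower.algebraMap_apply, ← IsScalarTower.algebraMap_apply, AlgHom.commutes] }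
  have h2 : fA.comp g = AlgHom.id A _ := by
    haveI : HenselianRing (Hull A C) (RingHom.ker pA.toRingHom) := Hull.henselianRing
    refine (Hull.existsUnique_lift (A := A) (RingHom.ker pA.toRingHom)
      ((Ideal.quotientKerAlgEquivOfSurjective (f := pA) hA).symm.toAlgHom)).unique ?_ ?_ <;>
    · refine AlgHom.ext fun x ↦ (mkₐ_eq_symm_iff pA hA _ _).mpr ?_
      first | exact (hf' _).trans (hg' x) | rfl
  exact ⟨RingEquiv.ofRingHom g.toRingHom f.toRingHom
    (RingHom.ext fun x ↦ AlgHom.congr_fun h1 x) (RingHom.ext fun x ↦ AlgHom.congr_fun h2 x)⟩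

end GrothLib.BrnchNhd
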