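import Groth.Agent.Lib.BrnchNhd.Sup
import Groth.Agent.Lib.BrnchNhd.HullLoc
import Groth.Agent.Lib.Hensel.Properties

/-! # Hulls along maps which are surjective up to units -/

set_option backward.isDefEq.respectTransparency false

universe u

open TensorProduct

namespace GrothLib.BrnchNhd

open GrothLib.Hensel

variable {R Q C : Type u} [CommRing R] [CommRing Q] [Field C] [Algebra R Q] [Algebra R C]
  [Algebra Q C] [IsScalarTower R Q C]

/-- The stage over `Q` induced by a stage over `R`. -/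
noncomputable def baseStage (Q : Type u) [CommRing Q] [Algebra R Q] [Algebra Q C]
    [IsScalarTower R Q C] (N : Nbhd R C) : Nbhd Q C :=
  Nbhd.ofEtale (Q ⊗[R] N.Ring)
    (Algebra.TensorProduct.lift (Algebra.ofId Q C) N.pt fun _ _ ↦ Commute.all _ _)

variable (hQ : ∀ y : Q, ∃ r s : R,
    y * algebraMap R Q s = algebraMap R Q r ∧ algebraMap R C s ≠ 0)

include hQ

/-- Finite families in the hull over `Q` come from stages over `R`. -/
theorem exists_baseStage_family (hR : Function.Surjective (Hull.proj : Hull R C →ₐ[R] C))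
    (hQs : Function.Surjective (Hull.proj : Hull Q C →ₐ[Q] C))
    {ι : Type u} [Finite ι] (x : ι → Hull Q C) :
    ∃ (N : Nbhd R C) (a : ι → (baseStage Q N).Ring),
      ∀ i, Hull.ι (baseStage Q N) (a i) = x i := by
  classical
  letI : Algebra R (Hull Q C) := ((algebraMap Q (Hull Q C)).comp (algebraMap R Q)).toAlgebra
  haveI : IsScalarTower R Q (Hull Q C) := .of_algebraMap_eq fun _ ↦ rfl
  let pQ : Hull Q C →ₐ[Q] C := Hull.proj
  let pR : Hull R C →ₐ[R] C := Hull.proj
  let pQ' : Hull Q C →ₐ[R] C := pQ.restrictScalars R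
  haveI : HenselianRing (Hull Q C) (RingHom.ker pQ'.toRingHom) := Hull.henselianRing
  obtain ⟨k, hk, hkuniq⟩ := Hull.existsUnique_lift (A := R) (RingHom.ker pQ'.toRingHom)
    ((Ideal.quotientKerAlgEquivOfSurjective (f := pQ') hQs).symm.toAlgHom)
  have hk' : ∀ z, pQ (k z) = pR z := fun z ↦
    (mkₐ_eq_symm_iff pQ' hQs _ _).mp (AlgHom.congr_fun hk z)
  -- the image of the hull over `R` contains the image of `Q`
  have hmem : ∀ y : Q, algebraMap Q (Hull Q C) y ∈ k.toRingHom.range := fun y ↦ by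
    obtain ⟨r, s, hrs, hs⟩ := hQ y
    have hu : IsUnit (algebraMap R (Hull R C) s) := Hull.isUnit_of_isUnit_proj (by
      rw [AlgHom.commutes]; exact hs.isUnit)
    refine ⟨algebraMap R (Hull R C) r * ↑hu.unit⁻¹, ?_⟩
    refine (hu.map k).mul_left_cancel ?_
    show k _ * k _ = k _ * _
    rw [← map_mul, mul_left_comm, IsUnit.mul_val_inv, mul_one, AlgHom.commutes, AlgHom.commutes,
      IsScalarTower.algebraMap_apply R Q (Hull Q C) s, ← map_mul, mul_comm, hrs,
      ← IsScalarTower.algebraMap_apply]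
  have hsurj : Function.Surjective k := by
    let T := Hull R C ⧸ RingHom.ker k.toRingHom
    let kT : T →+* Hull Q C := RingHom.kerLift k.toRingHom
    let e := RingHom.quotientKerEquivRange k.toRingHom
    letI : Algebra Q T :=
      (e.symm.toRingHom.comp ((algebraMap Q (Hull Q C)).codRestrict _ hmem)).toAlgebra
    have hkT : ∀ t, kT t = (e t : Hull Q C) := fun t ↦ by
      obtain ⟨t, rfl⟩ := Ideal.Quotient.mk_surjective t
      rfl
    have hcomm : ∀ y, kT (algebraMap Q T y) = algebraMap Q (Hull Q C) y := fun y ↦ by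
      rw [hkT]
      show ((e (e.symm _)) : Hull Q C) = _
      rw [e.apply_symm_apply]
      rfl
    let kA : T →ₐ[Q] Hull Q C := { kT with commutes' := hcomm }
    let pT : T →ₐ[Q] C := pQ.comp kA
    have hpT : Function.Surjective pT := fun c ↦ by
      obtain ⟨z, rfl⟩ := hR c
      exact ⟨Ideal.Quotient.mk _ z, hk' z⟩
    haveI : HenselianRing T (RingHom.ker pT.toRingHom) := by
      haveI : HenselianRing (Hull R C) (RingHom.ker pR.toRingHom) := Hull.henselianRing
      have := henselianRing_quotient (RingHom.ker k.toRingHom) (RingHom.ker pR.toRingHom)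
      convert this
      ext t
      obtain ⟨t, rfl⟩ := Ideal.Quotient.mk_surjective t
      show pQ (k t) = 0 ↔ _
      rw [hk', Ideal.mem_map_iff_of_surjective _ Ideal.Quotient.mk_surjective]
      refine ⟨fun h ↦ ⟨t, h, rfl⟩, fun ⟨w, hw, hwe⟩ ↦ ?_⟩
      have hwe' : k w = k t := sub_eq_zero.mp (by
        rw [← map_sub]; exact Ideal.Quotient.eq.mp hwe)
      rw [← hk', ← hwe', hk']
      exact hw
    obtain ⟨g, hg, -⟩ := Hull.existsUnique_lift (A := Q) (RingHom.ker pT.toRingHom)
      ((Ideal.quotientKerAlgEquivOfSurjective (f := pT) hpT).symm.toAlgHom)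
    have hg' : ∀ z, pT (g z) = pQ z := fun z ↦
      (mkₐ_eq_symm_iff pT hpT _ _).mp (AlgHom.congr_fun hg z)
    haveI : HenselianRing (Hull Q C) (RingHom.ker pQ.toRingHom) := Hull.henselianRing
    have hid : kA.comp g = AlgHom.id Q _ := by
      refine (Hull.existsUnique_lift (A := Q) (RingHom.ker pQ.toRingHom)
        ((Ideal.quotientKerAlgEquivOfSurjective (f := pQ) hQs).symm.toAlgHom)).unique ?_ ?_ <;>
      · refine AlgHom.ext fun z ↦ (mkₐ_eq_symm_iff pQ hQs _ _).mpr ?_
        first | exact hg' z | rfl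
    intro z
    obtain ⟨w, hw⟩ := Ideal.Quotient.mk_surjective (g z)
    refine ⟨w, ?_⟩
    have := AlgHom.congr_fun hid z
    rw [AlgHom.comp_apply, ← hw] at this
    exact this
  choose z hz using fun i ↦ hsurj (x i)
  obtain ⟨N, a, ha⟩ := Hull.exists_ι_family z
  let φ : Q ⊗[R] N.Ring →ₐ[Q] C :=
    Algebra.TensorProduct.lift (Algebra.ofId Q C) N.pt fun _ _ ↦ Commute.all _ _
  let inc : N.Ring →ₐ[R] Q ⊗[R] N.Ring := Algebra.TensorProduct.includeRight
  let k2 : N.Ring →ₐ[R] Hull Q C :=
    { (Hull.of φ).toRingHom.comp inc.toRingHom with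
      commutes' := fun r ↦ by
        show Hull.of φ (inc (algebraMap R N.Ring r)) = algebraMap Q (Hull Q C) (algebraMap R Q r)
        rw [AlgHom.commutes, IsScalarTower.algebraMap_apply R Q (Q ⊗[R] N.Ring), AlgHom.commutes] }
  have heq : k.comp (Hull.ι N) = k2 := by
    refine (existsUnique_algHom_lift (I := RingHom.ker pQ'.toRingHom)
      ((Ideal.quotientKerAlgEquivOfSurjective (f := pQ') hQs).symm.toAlgHom.comp N.pt)).unique
      ?_ ?_ <;> refine AlgHom.ext fun y ↦ (mkₐ_eq_symm_iff pQ' hQs _ _).mpr ?_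
    · show pQ (k (Hull.ι N y)) = N.pt y
      rw [hk']
      exact Hull.proj_ι N y
    · show pQ (Hull.of φ (inc y)) = N.pt y
      refine (AlgHom.congr_fun (Hull.proj_comp_of φ) (inc y)).trans ?_
      show φ (1 ⊗ₜ[R] y) = N.pt y
      rw [Algebra.TensorProduct.lift_tmul, map_one, one_mul]
  refine ⟨N, fun i ↦ Nbhd.ofEtaleEquiv (Q ⊗[R] N.Ring) φ (inc (a i)), fun i ↦ ?_⟩
  rw [← hz i, ← ha i]
  exact (AlgHom.congr_fun heq (a i)).symm

theorem card_minimalPrimes_hull_baseStage
    (hR : Function.Surjective (Hull.proj : Hull R C →ₐ[R] C))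
    (hQs : Function.Surjective (Hull.proj : Hull Q C →ₐ[Q] C)) :
    ENat.card (minimalPrimes (Hull Q C)) = ⨆ N : Nbhd R C, (branchSet (baseStage Q N)).encard :=
  card_minimalPrimes_hull_of_stages _ fun x ↦ exists_baseStage_family hQ hR hQs x

end GrothLib.BrnchNhd
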