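import Groth.Agent.Lib.BrnchNhd.Main
import Groth.Agent.Lib.BrnchNhd.HullSurj
import Groth.Agent.Lib.EtLocal.PointFibre
import Mathlib.AlgebraicGeometry.Pullbacks
import Mathlib.AlgebraicGeometry.Morphisms.Preimmersion

/-! # Branches of an immersed scheme through étale neighbourhoods of the ambient scheme -/

set_option backward.isDefEq.respectTransparency false

universe u

open CategoryTheory CategoryTheory.Limits AlgebraicGeometry TensorProduct

namespace GrothLib.BrnchNhd

open GrothLib.Hensel

/-- Components through a point are preserved by an embedding containing all generizations. -/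
theorem encard_maxGen_embedding {U U' : Scheme.{u}} (j : U' ⟶ U) [IsPreimmersion j] (w : U')
    (hgen : ∀ z, z ⤳ j w → z ∈ Set.range j) : (maxGen w).encard = (maxGen (j w)).encard := by
  refine encard_eq_of_bijOn (f := j) ⟨fun ζ hζ ↦ ⟨hζ.1.map j.continuous, fun z hz ↦ ?_⟩,
    j.isEmbedding.injective.injOn, ?_⟩
  · obtain ⟨z, rfl⟩ : z ∈ Set.range j := hgen z (hz.trans (hζ.1.map j.continuous))
    rw [hζ.2 z (j.isEmbedding.isInducing.specializes_iff.mp hz)]
  · rintro z ⟨hz, hzm⟩
    obtain ⟨ζ, rfl⟩ : z ∈ Set.range j := hgen z hz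
    exact ⟨ζ, ⟨j.isEmbedding.isInducing.specializes_iff.mp hz,
      fun z' hz' ↦ j.isEmbedding.injective (hzm _ (hz'.map j.continuous))⟩, rfl⟩

variable {X' X : Scheme.{u}} (i : X' ⟶ X) [IsPreimmersion i] (x' : X')

theorem residueFieldMap_bijective_of_preimmersion : Function.Bijective (i.residueFieldMap x') := by
  refine ⟨(i.residueFieldMap x').hom.injective, fun z ↦ ?_⟩
  obtain ⟨z, rfl⟩ := IsLocalRing.residue_surjective z
  obtain ⟨w, rfl⟩ := i.stalkMap_surjective x' z
  exact ⟨X.residue _ w, ConcreteCategory.congr_hom (Scheme.residue_residueFieldMap i x') w⟩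

/-- The hull count of an immersed point is attained on étale neighbourhoods of the ambient scheme. -/
theorem card_minimalPrimes_embedded_le (C : Type u) [Field C] [Algebra (X'.presheaf.stalk x') C]
    [Algebra (IsLocalRing.ResidueField (X'.presheaf.stalk x')) C]
    [IsScalarTower (X'.presheaf.stalk x') (IsLocalRing.ResidueField (X'.presheaf.stalk x')) C]
    [Algebra.IsSeparable (IsLocalRing.ResidueField (X'.presheaf.stalk x')) C]
    {c : ℕ∞} (hc : ∀ (U : Scheme.{u}) (g : U ⟶ X) (s : Spec (CommRingCat.of C) ⟶ pullback g i),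
      Etale g → s ≫ pullback.snd g i = Spec.map (CommRingCat.ofHom
        (algebraMap (IsLocalRing.ResidueField (X'.presheaf.stalk x')) C)) ≫
          X'.fromSpecResidueField x' →
        (maxGen (s (IsLocalRing.closedPoint C))).encard ≤ c) :
    ENat.card (minimalPrimes (Hull (X'.presheaf.stalk x') C)) ≤ c := by
  obtain ⟨_, ⟨V, hV, rfl⟩, hxV, -⟩ :=
    X.isBasis_affineOpens.exists_subset_of_mem_open (Set.mem_univ (i x')) isOpen_univ
  let A := X'.presheaf.stalk x'
  let φ : Γ(X, V) ⟶ A := X.presheaf.germ V (i x') hxV ≫ i.stalkMap x'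
  letI : Algebra Γ(X, V) A := φ.hom.toAlgebra
  letI : Algebra Γ(X, V) C := ((algebraMap A C).comp φ.hom).toAlgebra
  haveI : IsScalarTower Γ(X, V) A C := .of_algebraMap_eq fun _ ↦ rfl
  letI : Algebra Γ(X, V) (X.presheaf.stalk (i x')) := X.presheaf.algebra_section_stalk ⟨i x', hxV⟩
  haveI := hV.isLocalization_stalk ⟨i x', hxV⟩
  let p := (hV.primeIdealOf ⟨i x', hxV⟩).asIdeal
  letI : Algebra (X.presheaf.stalk (i x')) C := ((algebraMap A C).comp (i.stalkMap x').hom).toAlgebra
  haveI : IsScalarTower Γ(X, V) (X.presheaf.stalk (i x')) C := .of_algebraMap_eq fun _ ↦ rfl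
  letI : Algebra (IsLocalRing.ResidueField (X.presheaf.stalk (i x'))) C :=
    ((algebraMap (IsLocalRing.ResidueField A) C).comp (i.residueFieldMap x').hom).toAlgebra
  haveI : IsScalarTower (X.presheaf.stalk (i x'))
      (IsLocalRing.ResidueField (X.presheaf.stalk (i x'))) C := .of_algebraMap_eq fun r ↦
    IsScalarTower.algebraMap_apply A (IsLocalRing.ResidueField A) C _
  let er : IsLocalRing.ResidueField (X.presheaf.stalk (i x')) ≃+* IsLocalRing.ResidueField A :=
    RingEquiv.ofBijective (i.residueFieldMap x').hom (residueFieldMap_bijective_of_preimmersion i x')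
  haveI : Algebra.IsSeparable (IsLocalRing.ResidueField (X.presheaf.stalk (i x'))) C :=
    Algebra.IsSeparable.of_equiv_equiv er.symm (RingEquiv.refl C) (RingHom.ext fun z ↦ by
      show algebraMap (IsLocalRing.ResidueField A) C (er (er.symm z)) = _
      rw [er.apply_symm_apply]
      rfl)
  have hQ : ∀ y : A, ∃ r s : Γ(X, V), y * algebraMap Γ(X, V) A s = algebraMap Γ(X, V) A r ∧
      algebraMap Γ(X, V) C s ≠ 0 := fun y ↦ by
    obtain ⟨w, rfl⟩ := i.stalkMap_surjective x' y
    obtain ⟨⟨r, s⟩, hrs⟩ := IsLocalization.surj p.primeCompl w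
    refine ⟨r, s, ?_, ?_⟩
    · show i.stalkMap x' w * i.stalkMap x' _ = i.stalkMap x' _
      rw [← map_mul]
      exact congrArg (i.stalkMap x') hrs
    · rw [IsScalarTower.algebraMap_apply Γ(X, V) (X.presheaf.stalk (i x')) C]
      exact ((IsLocalization.map_units (X.presheaf.stalk (i x')) s).map _).ne_zero
  rw [card_minimalPrimes_hull_baseStage (R := Γ(X, V)) hQ
    (proj_surjective_of_localization p.primeCompl (A := X.presheaf.stalk (i x')))
    (Hull.proj_surjective FieldHull.exists_nbhd_of_isSeparable)]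
  refine iSup_le fun N ↦ ?_
  let nR : Γ(X, V) ⟶ CommRingCat.of N.Ring := CommRingCat.ofHom (algebraMap Γ(X, V) N.Ring)
  haveI : Etale (Spec.map nR) := HasRingHomProperty.Spec_iff.mpr
    (RingHom.etale_algebraMap.mpr N.etale_ring)
  let g : Spec (CommRingCat.of N.Ring) ⟶ X := Spec.map nR ≫ hV.fromSpec
  let T : CommRingCat.{u} := CommRingCat.of (A ⊗[Γ(X, V)] N.Ring)
  let incL : A ⟶ T := CommRingCat.ofHom
    (Algebra.TensorProduct.includeLeftRingHom : A →+* A ⊗[Γ(X, V)] N.Ring)
  let incR : CommRingCat.of N.Ring ⟶ T := CommRingCat.ofHom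
    (Algebra.TensorProduct.includeRight : N.Ring →ₐ[Γ(X, V)] A ⊗[Γ(X, V)] N.Ring).toRingHom
  have hsq : IsPullback (Spec.map incL) (Spec.map incR) (Spec.map φ) (Spec.map nR) :=
    isPullback_SpecMap_of_isPushout _ _ _ _
      (CommRingCat.isPushout_tensorProduct Γ(X, V) A N.Ring)
  have hsq' : IsPullback (Spec.map incR) (Spec.map incL) g (X'.fromSpecStalk x' ≫ i) := by
    have e : X'.fromSpecStalk x' ≫ i = Spec.map φ ≫ hV.fromSpec := by
      rw [← Scheme.SpecMap_stalkMap_fromSpecStalk, Spec.map_comp, Category.assoc]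
      congr 1
      exact (hV.fromSpecStalk_eq_fromSpecStalk hxV).symm
    rw [e]
    refine ⟨⟨by rw [← reassoc_of% hsq.flip.w]⟩, ⟨?_⟩⟩
    exact PullbackCone.isLimitOfCompMono _ _ hV.fromSpec _ hsq.flip.isLimit
  let m : Spec T ⟶ pullback g i :=
    pullback.lift (Spec.map incR) (Spec.map incL ≫ X'.fromSpecStalk x')
      (by rw [Category.assoc]; exact hsq'.w)
  have hm : IsPullback m (Spec.map incL) (pullback.snd g i) (X'.fromSpecStalk x') := by
    refine IsPullback.of_right ?_ (pullback.lift_snd _ _ _) (IsPullback.of_hasPullback g i)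
    rw [pullback.lift_fst]
    exact hsq'
  haveI : IsPreimmersion m := MorphismProperty.of_isPullback hm.flip inferInstance
  let pT : A ⊗[Γ(X, V)] N.Ring →ₐ[A] C :=
    Algebra.TensorProduct.lift (Algebra.ofId A C) N.pt fun _ _ ↦ Commute.all _ _
  let e := Nbhd.ofEtaleEquiv (A ⊗[Γ(X, V)] N.Ring) pT
  let ec : T ⟶ CommRingCat.of (baseStage A N).Ring := CommRingCat.ofHom e.toRingEquiv.toRingHom
  haveI : IsIso ec := (e.toRingEquiv.toCommRingCatIso).isIso_hom
  let q : Spec (CommRingCat.of (baseStage A N).Ring) :=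
    Spec.map (CommRingCat.ofHom (baseStage A N).pt.toRingHom) (IsLocalRing.closedPoint C)
  let s : Spec (CommRingCat.of C) ⟶ pullback g i := Spec.map (CommRingCat.ofHom pT.toRingHom) ≫ m
  refine le_trans (le_of_eq ?_) (hc _ g s (by
    show Etale (Spec.map nR ≫ hV.fromSpec); infer_instance) ?_)
  · have hq : (q : PrimeSpectrum (baseStage A N).Ring).asIdeal =
        RingHom.ker (baseStage A N).pt.toRingHom := by
      show (IsLocalRing.maximalIdeal C).comap (baseStage A N).pt.toRingHom = _
      rw [IsLocalRing.isField_iff_maximalIdeal_eq.mp (Field.toIsField C)]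
      rfl
    have hsq2 : Spec.map (CommRingCat.ofHom (baseStage A N).pt.toRingHom) ≫ Spec.map ec =
        Spec.map (CommRingCat.ofHom pT.toRingHom) := by
      rw [← Spec.map_comp]
      congr 1
      refine CommRingCat.hom_ext (RingHom.ext fun z ↦ ?_)
      exact AlgHom.congr_fun (Nbhd.ofEtale_pt (A ⊗[Γ(X, V)] N.Ring) pT) z
    have hst : s (IsLocalRing.closedPoint C) = m (Spec.map ec q) := by
      show (Spec.map (CommRingCat.ofHom pT.toRingHom) ≫ m) _ = _
      rw [← hsq2]; rfl
    rw [hst, ← encard_maxGen_embedding m (Spec.map ec q), ← encard_maxGen_openImmersion,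
      encard_maxGen_spec, hq]
    · rfl
    · intro z hz
      have hrange : Set.range m = pullback.snd g i ⁻¹' Set.range (X'.fromSpecStalk x') := by
        rw [← hm.isoPullback_hom_fst, Scheme.Hom.comp_base, TopCat.coe_comp,
          Set.range_comp, Set.range_eq_univ.mpr
            hm.isoPullback.hom.surjective, Set.image_univ,
          Scheme.Pullback.range_fst]
      rw [hrange, Set.mem_preimage, Scheme.range_fromSpecStalk]
      refine (hz.map (pullback.snd g i).continuous).trans ?_
      rw [← Scheme.Hom.comp_apply, hm.w, Scheme.Hom.comp_apply]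
      have h : X'.fromSpecStalk x' (Spec.map incL (Spec.map ec q)) ∈
        Set.range (X'.fromSpecStalk x') := ⟨_, rfl⟩
      rwa [Scheme.range_fromSpecStalk] at h
  · show (Spec.map (CommRingCat.ofHom pT.toRingHom) ≫ m) ≫ pullback.snd g i = _
    rw [Category.assoc, hm.w, ← Category.assoc, ← Spec.map_comp]
    show _ = _ ≫ (Spec.map (X'.residue x') ≫ X'.fromSpecStalk x')
    rw [← Category.assoc, ← Spec.map_comp]
    congr 2
    ext a
    show pT (a ⊗ₜ[Γ(X, V)] (1 : N.Ring)) = _
    rw [Algebra.TensorProduct.lift_tmul, map_one, mul_one]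
    exact IsScalarTower.algebraMap_apply A (IsLocalRing.ResidueField A) C a

end GrothLib.BrnchNhd
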