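import Groth.Agent.Lib.BrnchNhd.Embedded

/-! # Branch numbers of fibres -/

set_option backward.isDefEq.respectTransparency false

universe u

open CategoryTheory CategoryTheory.Limits AlgebraicGeometry

namespace GrothLib.BrnchNhd

open GrothLib.Hensel

section

variable {X' X U P : Scheme.{u}} {i : X' ⟶ X} {g : U ⟶ X} {p₁ : P ⟶ U} {p₂ : P ⟶ X'}

theorem exists_point_of_isPullback [IsPreimmersion i] (h : IsPullback p₁ p₂ g i) {x' : X'} {v : U}
    (hv : g v = i x') : ∃ w : P, p₁ w = v ∧ p₂ w = x' := by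
  obtain ⟨w, h1, h2⟩ := Scheme.Pullback.exists_preimage_pullback v x' hv
  refine ⟨h.isoPullback.inv w, ?_, ?_⟩
  · rw [← Scheme.Hom.comp_apply, IsPullback.isoPullback_inv_fst, h1]
  · rw [← Scheme.Hom.comp_apply, IsPullback.isoPullback_inv_snd, h2]

theorem encard_fibre_components [IsPreimmersion i] (h : IsPullback p₁ p₂ g i) {v : U} {w : P}
    (hw : p₁ w = v) :
    {Z : Set P | Z ∈ irreducibleComponents P ∧ ∃ w' ∈ Z, p₁ w' = v}.encard = (maxGen w).encard := by
  haveI : IsPreimmersion p₁ := MorphismProperty.of_isPullback h.flip inferInstance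
  rw [← encard_components_eq]
  congr 1
  ext Z
  refine and_congr_right fun _ ↦ ⟨fun ⟨w', hw', he⟩ ↦ ?_, fun hZ ↦ ⟨w, hZ, hw⟩⟩
  rwa [← p₁.isEmbedding.injective (he.trans hw.symm)]

end

theorem residueFieldMap_bijective_of_comp_eq {P U X' X : Scheme.{u}} {a : P ⟶ U} {g : U ⟶ X}
    {b : P ⟶ X'} {i : X' ⟶ X} (h : a ≫ g = b ≫ i) (w : P) :
    (Function.Bijective (b.residueFieldMap w) → Function.Bijective (i.residueFieldMap (b w)) →
      Function.Bijective (g.residueFieldMap (a w))) ∧
    (Function.Bijective (a.residueFieldMap w) → Function.Bijective (g.residueFieldMap (a w)) →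
      Function.Bijective (b.residueFieldMap w)) := by
  have key : ∀ y, a.residueFieldMap w (g.residueFieldMap (a w) y) =
      b.residueFieldMap w (i.residueFieldMap (b w) ((X.residueFieldCongr (by
        rw [← Scheme.Hom.comp_apply, h, Scheme.Hom.comp_apply])).hom y)) := fun y ↦ by
    have := Scheme.Hom.residueFieldMap_congr h w
    rw [Scheme.residueFieldMap_comp, Scheme.residueFieldMap_comp] at this
    exact ConcreteCategory.congr_hom this y
  refine ⟨fun hb hi ↦ ⟨(g.residueFieldMap (a w)).hom.injective, fun z ↦ ?_⟩,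
    fun ha hg ↦ ⟨(b.residueFieldMap w).hom.injective, fun z ↦ ?_⟩⟩
  · obtain ⟨y₁, hy₁⟩ := hb.2 (a.residueFieldMap w z)
    obtain ⟨y₂, rfl⟩ := hi.2 y₁
    obtain ⟨y₃, rfl⟩ := (X.residueFieldCongr (show g (a w) = i (b w) by
      rw [← Scheme.Hom.comp_apply, h, Scheme.Hom.comp_apply])).commRingCatIsoToRingEquiv.surjective y₂
    exact ⟨y₃, (a.residueFieldMap w).hom.injective ((key y₃).trans hy₁)⟩
  · obtain ⟨y₁, rfl⟩ := ha.2 z
    obtain ⟨y₂, rfl⟩ := hg.2 y₁
    exact ⟨_, (key y₂).symm⟩

theorem numBranchesAt_embedded_eq {X' X : Scheme.{u}} (i : X' ⟶ X) [IsPreimmersion i] (x' : X') :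
    Brnch.numBranchesAt X' x' = ⨆ (U : Scheme.{u}) (g : U ⟶ X) (v : U)
      (_ : Hens2.IsEtaleNbhd g v (i x')),
        {Z : Set ↑(pullback g i) | Z ∈ irreducibleComponents ↑(pullback g i) ∧
          ∃ w ∈ Z, pullback.fst g i w = v}.encard := by
  refine le_antisymm ?_ (iSup_le fun U ↦ iSup_le fun g ↦ iSup_le fun v ↦ iSup_le fun h ↦ ?_)
  · show Brnch.numBranches (X'.presheaf.stalk x') ≤ _
    rw [← IsHenselization.card_minimalPrimes (A := X'.presheaf.stalk x')
      (S := Hens (X'.presheaf.stalk x'))]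
    refine card_minimalPrimes_embedded_le i x' (IsLocalRing.ResidueField (X'.presheaf.stalk x'))
      fun U g s hg hs ↦ ?_
    have hs' : s ≫ pullback.snd g i = X'.fromSpecResidueField x' := by
      rw [hs, Algebra.algebraMap_self]
      exact Eq.trans (congrArg (· ≫ X'.fromSpecResidueField x') (Spec.map_id _))
        (Category.id_comp _)
    obtain ⟨h1, h2⟩ := residue_bijective_of_section (pullback.snd g i) s hs'
    set w := s (IsLocalRing.closedPoint (X'.residueField x' : Type u))
    have hw : g (pullback.fst g i w) = i x' := by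
      rw [← Scheme.Hom.comp_apply, pullback.condition, Scheme.Hom.comp_apply]; exact congrArg i h1
    have hb := (residueFieldMap_bijective_of_comp_eq pullback.condition w).1 h2
      (residueFieldMap_bijective_of_preimmersion i _)
    refine le_iSup_of_le U (le_iSup_of_le g (le_iSup_of_le (pullback.fst g i w)
      (le_iSup_of_le ⟨hg, hw, hb⟩ (le_of_eq ?_))))
    exact (encard_fibre_components (IsPullback.of_hasPullback g i) rfl).symm
  · obtain ⟨w, hw1, hw2⟩ :=
      exists_point_of_isPullback (IsPullback.of_hasPullback g i) (x' := x') h.base_eq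
    rw [encard_fibre_components (IsPullback.of_hasPullback g i) hw1, numBranchesAt_eq,
      ← encard_components_eq]
    haveI := h.etale
    subst hw1
    have hb := (residueFieldMap_bijective_of_comp_eq (pullback.condition (f := g) (g := i)) w).2
      (residueFieldMap_bijective_of_preimmersion (pullback.fst g i) w) h.residue_bijective
    exact le_iSup_of_le _ (le_iSup_of_le (pullback.snd g i) (le_iSup_of_le w
      (le_iSup_of_le ⟨inferInstance, hw2, hb⟩ le_rfl)))

theorem numGeomBranchesAt_embedded_eq {X' X : Scheme.{u}} (i : X' ⟶ X) [IsPreimmersion i]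
    (x' : X') :
    Brnch.numGeomBranchesAt X' x' = ⨆ (U : Scheme.{u}) (g : U ⟶ X) (v : U)
      (_ : Etale g ∧ g v = i x'),
        {Z : Set ↑(pullback g i) | Z ∈ irreducibleComponents ↑(pullback g i) ∧
          ∃ w ∈ Z, pullback.fst g i w = v}.encard := by
  refine le_antisymm ?_ (iSup_le fun U ↦ iSup_le fun g ↦ iSup_le fun v ↦ iSup_le fun h ↦ ?_)
  · show Brnch.numGeomBranches (X'.presheaf.stalk x') ≤ _
    rw [← IsStrictHenselization.card_minimalPrimes (A := X'.presheaf.stalk x')
      (S := StrictHens (X'.presheaf.stalk x'))]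
    refine card_minimalPrimes_embedded_le i x'
      (SeparableClosure (IsLocalRing.ResidueField (X'.presheaf.stalk x'))) fun U g s hg hs ↦ ?_
    set w := s (IsLocalRing.closedPoint
      (SeparableClosure (IsLocalRing.ResidueField (X'.presheaf.stalk x'))))
    have h1 : pullback.snd g i w = x' := by
      rw [← Scheme.Hom.comp_apply, hs, Scheme.Hom.comp_apply]
      exact Scheme.fromSpecResidueField_apply ..
    have hw : g (pullback.fst g i w) = i x' := by
      rw [← Scheme.Hom.comp_apply, pullback.condition, Scheme.Hom.comp_apply, h1]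
    refine le_iSup_of_le U (le_iSup_of_le g (le_iSup_of_le (pullback.fst g i w)
      (le_iSup_of_le ⟨hg, hw⟩ (le_of_eq ?_))))
    exact (encard_fibre_components (IsPullback.of_hasPullback g i) rfl).symm
  · obtain ⟨w, hw1, hw2⟩ :=
      exists_point_of_isPullback (IsPullback.of_hasPullback g i) (x' := x') h.2
    rw [encard_fibre_components (IsPullback.of_hasPullback g i) hw1, numGeomBranchesAt_eq,
      ← encard_components_eq]
    haveI := h.1
    exact le_iSup_of_le _ (le_iSup_of_le (pullback.snd g i) (le_iSup_of_le w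
      (le_iSup_of_le ⟨inferInstance, hw2⟩ le_rfl)))

/-- Components of the fibre of a composite. -/
theorem encard_fiber_comp_components {U X S : Scheme.{u}} (g : U ⟶ X) (f : X ⟶ S) (x : X) (v : U)
    (hv : g v = x) :
    {Z : Set ↑((g ≫ f).fiber (f x)) | Z ∈ irreducibleComponents ↑((g ≫ f).fiber (f x)) ∧
        ∃ u' ∈ Z, (g ≫ f).fiberι (f x) u' = v}.encard =
      {Z : Set ↑(pullback g (f.fiberι (f x))) |
        Z ∈ irreducibleComponents ↑(pullback g (f.fiberι (f x))) ∧
          ∃ w ∈ Z, pullback.fst g (f.fiberι (f x)) w = v}.encard := by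
  haveI : IsPreimmersion (f.fiberι (f x)) :=
    inferInstanceAs (IsPreimmersion (pullback.fst f (S.fromSpecResidueField (f x))))
  have hv' : g v = f.fiberι (f x) (f.asFiber x) := by rw [hv, Scheme.Hom.fiberι_asFiber]
  have h := GrothLib.EtLocal.isPullback_fiberMap g f (f x)
  obtain ⟨w, hw1, -⟩ := exists_point_of_isPullback h hv'
  rw [encard_fibre_components h hw1, encard_maxGen_openImmersion h.isoPullback.hom,
    encard_fibre_components (IsPullback.of_hasPullback g (f.fiberι (f x)))]
  rw [← Scheme.Hom.comp_apply, IsPullback.isoPullback_hom_fst, hw1]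

theorem numBranchesAt_fibre_eq {X S : Scheme.{u}} (f : X ⟶ S) (x : X) :
    Brnch.numBranchesAt (f.fiber (f x)) (f.asFiber x) = ⨆ (U : Scheme.{u}) (g : U ⟶ X) (u : U)
      (_ : Hens2.IsEtaleNbhd g u x),
      {Z : Set ↑((g ≫ f).fiber (f x)) | Z ∈ irreducibleComponents ↑((g ≫ f).fiber (f x)) ∧
        ∃ u' ∈ Z, (g ≫ f).fiberι (f x) u' = u}.encard := by
  haveI : IsPreimmersion (f.fiberι (f x)) :=
    inferInstanceAs (IsPreimmersion (pullback.fst f (S.fromSpecResidueField (f x))))
  rw [numBranchesAt_embedded_eq (f.fiberι (f x)) (f.asFiber x)]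
  refine iSup_congr fun U ↦ iSup_congr fun g ↦ iSup_congr fun v ↦ ?_
  rw [Scheme.Hom.fiberι_asFiber]
  exact iSup_congr fun h ↦ (encard_fiber_comp_components g f x v h.base_eq).symm

theorem numGeomBranchesAt_fibre_eq {X S : Scheme.{u}} (f : X ⟶ S) (x : X) :
    Brnch.numGeomBranchesAt (f.fiber (f x)) (f.asFiber x) = ⨆ (U : Scheme.{u}) (g : U ⟶ X) (u : U)
      (_ : Etale g ∧ g u = x),
      {Z : Set ↑((g ≫ f).fiber (f x)) | Z ∈ irreducibleComponents ↑((g ≫ f).fiber (f x)) ∧
        ∃ u' ∈ Z, (g ≫ f).fiberι (f x) u' = u}.encard := by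
  haveI : IsPreimmersion (f.fiberι (f x)) :=
    inferInstanceAs (IsPreimmersion (pullback.fst f (S.fromSpecResidueField (f x))))
  rw [numGeomBranchesAt_embedded_eq (f.fiberι (f x)) (f.asFiber x)]
  refine iSup_congr fun U ↦ iSup_congr fun g ↦ iSup_congr fun v ↦ ?_
  rw [Scheme.Hom.fiberι_asFiber]
  exact iSup_congr fun h ↦ (encard_fiber_comp_components g f x v h.2).symm

end GrothLib.BrnchNhd
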