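import Groth.Agent.Lib.BrnchNhd.Sup
import Groth.Agent.Lib.BrnchNhd.Components
import Groth.Agent.Lib.Hensel.LocalHull
import Mathlib.AlgebraicGeometry.Morphisms.Etale
import Mathlib.AlgebraicGeometry.ResidueField
import Mathlib.RingTheory.Unramified.LocalRing
import Mathlib.FieldTheory.IsSepClosed

/-! # Minimal primes of a hull as components of étale neighbourhoods -/

set_option backward.isDefEq.respectTransparency false

universe u

open CategoryTheory AlgebraicGeometry

namespace GrothLib.BrnchNhd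

open GrothLib.Hensel

variable {X : Scheme.{u}} {V : X.Opens} (hV : IsAffineOpen V) (C : Type u) [Field C]
  [Algebra Γ(X, V) C]

/-- The geometric point of an affine open given by a field valued point of its ring. -/
noncomputable def fieldPt : Spec (CommRingCat.of C) ⟶ X :=
  Spec.map (CommRingCat.ofHom (algebraMap Γ(X, V) C)) ≫ hV.fromSpec

theorem fieldPt_mem (t : Spec (CommRingCat.of C)) : fieldPt hV C t ∈ V := by
  show hV.fromSpec _ ∈ (V : Set X)
  rw [← hV.range_fromSpec]
  exact ⟨_, rfl⟩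

/-- The minimal primes of the hull at a field valued point are counted by the components of the
étale neighbourhoods through the lifted point. -/
theorem card_minimalPrimes_hull_eq_iSup :
    ENat.card (minimalPrimes (Hull Γ(X, V) C)) =
      ⨆ (U : Scheme.{u}) (g : U ⟶ X) (s : Spec (CommRingCat.of C) ⟶ U)
        (_ : Etale g ∧ s ≫ g = fieldPt hV C),
        {Z : Set U | Z ∈ irreducibleComponents U ∧ s (IsLocalRing.closedPoint C) ∈ Z}.encard := by
  rw [card_minimalPrimes_hull]
  refine le_antisymm (iSup_le fun N ↦ ?_) (iSup_le fun U ↦ iSup_le fun g ↦ iSup_le fun s ↦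
    iSup_le fun h ↦ ?_)
  · let a : Γ(X, V) ⟶ CommRingCat.of N.Ring := CommRingCat.ofHom (algebraMap Γ(X, V) N.Ring)
    haveI : Etale (Spec.map a) := HasRingHomProperty.Spec_iff.mpr
      (RingHom.etale_algebraMap.mpr N.etale_ring)
    refine le_iSup_of_le (Spec (.of N.Ring)) (le_iSup_of_le (Spec.map a ≫ hV.fromSpec)
      (le_iSup_of_le (Spec.map (CommRingCat.ofHom N.pt.toRingHom))
        (le_iSup_of_le ⟨inferInstance, ?_⟩ ?_)))
    · rw [← Category.assoc, ← Spec.map_comp, fieldPt]
      congr 2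
      ext r
      exact N.pt.commutes r
    · rw [encard_components_eq, encard_maxGen_spec]
      refine le_of_eq (congrArg Set.encard ?_)
      have hq : ((Spec.map (CommRingCat.ofHom N.pt.toRingHom) (IsLocalRing.closedPoint C) :
          Spec (CommRingCat.of N.Ring)) : PrimeSpectrum N.Ring).asIdeal =
          RingHom.ker N.pt.toRingHom := by
        show (IsLocalRing.maximalIdeal C).comap N.pt.toRingHom = _
        rw [IsLocalRing.isField_iff_maximalIdeal_eq.mp (Field.toIsField C)]
        rfl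
      rw [hq]
      rfl
  · obtain ⟨hg, hs⟩ := h
    let t := IsLocalRing.closedPoint C
    have hsV : s t ∈ g ⁻¹ᵁ V := by
      show g (s t) ∈ V
      rw [← Scheme.Hom.comp_apply, hs]; exact fieldPt_mem hV C t
    obtain ⟨_, ⟨W, hW, rfl⟩, htW, hWV⟩ :=
      U.isBasis_affineOpens.exists_subset_of_mem_open hsV (g ⁻¹ᵁ V).2
    have hrange : Set.range s ⊆ Set.range hW.fromSpec := by
      rw [hW.range_fromSpec]
      rintro _ ⟨t', rfl⟩
      rwa [Subsingleton.elim t' t]
    obtain ⟨ψ, hψ⟩ := Spec.map_surjective (IsOpenImmersion.lift hW.fromSpec s hrange)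
    have hsψ : Spec.map ψ ≫ hW.fromSpec = s := by rw [hψ, IsOpenImmersion.lift_fac]
    let a : Γ(X, V) ⟶ Γ(U, W) := g.appLE V W hWV
    have hae : a.hom.Etale := HasRingHomProperty.appLE @Etale g inferInstance ⟨V, hV⟩ ⟨W, hW⟩ hWV
    have hcomp : a ≫ ψ = CommRingCat.ofHom (algebraMap Γ(X, V) C) := by
      apply Spec.map_injective
      rw [← cancel_mono hV.fromSpec, Spec.map_comp, Category.assoc,
        hV.SpecMap_appLE_fromSpec g hW, ← Category.assoc, hsψ, hs, fieldPt]
    letI := a.hom.toAlgebra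
    haveI : Algebra.Etale Γ(X, V) Γ(U, W) := hae
    let φ : Γ(U, W) →ₐ[Γ(X, V)] C :=
      { ψ.hom with commutes' := fun r ↦ RingHom.congr_fun (congrArg CommRingCat.Hom.hom hcomp) r }
    let e := Nbhd.ofEtaleEquiv Γ(U, W) φ
    let N := Nbhd.ofEtale Γ(U, W) φ
    refine le_iSup_of_le N ?_
    rw [encard_components_eq]
    let ec : Γ(U, W) ⟶ CommRingCat.of N.Ring := CommRingCat.ofHom e.toRingEquiv.toRingHom
    haveI : IsIso ec := (e.toRingEquiv.toCommRingCatIso).isIso_hom
    let q : Spec (CommRingCat.of N.Ring) := Spec.map (CommRingCat.ofHom N.pt.toRingHom) t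
    have hpt : Spec.map (CommRingCat.ofHom N.pt.toRingHom) ≫ Spec.map ec ≫ hW.fromSpec = s := by
      rw [← Category.assoc, ← Spec.map_comp, ← hsψ]
      congr 2
      ext x
      exact AlgHom.congr_fun (Nbhd.ofEtale_pt Γ(U, W) φ) x
    have hst : s t = (Spec.map ec ≫ hW.fromSpec) q := by
      rw [← hpt]; rfl
    rw [show s (IsLocalRing.closedPoint C) = _ from hst,
      ← encard_maxGen_openImmersion (Spec.map ec ≫ hW.fromSpec) q, encard_maxGen_spec]
    refine le_of_eq (congrArg Set.encard ?_)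
    have hq : (q : PrimeSpectrum N.Ring).asIdeal = RingHom.ker N.pt.toRingHom := by
      show (IsLocalRing.maximalIdeal C).comap N.pt.toRingHom = _
      rw [IsLocalRing.isField_iff_maximalIdeal_eq.mp (Field.toIsField C)]
      rfl
    rw [hq]
    rfl

/-- Every point above a separably closed field valued point lifts it. -/
theorem exists_lift_fieldPt [IsSepClosed C] {U : Scheme.{u}} (g : U ⟶ X) [Etale g] (v : U)
    (hv : g v = fieldPt hV C (IsLocalRing.closedPoint C)) :
    ∃ s : Spec (CommRingCat.of C) ⟶ U,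
      s ≫ g = fieldPt hV C ∧ s (IsLocalRing.closedPoint C) = v := by
  obtain ⟨_, ⟨W, hW, rfl⟩, hvW, hWV⟩ := U.isBasis_affineOpens.exists_subset_of_mem_open
    (show v ∈ g ⁻¹ᵁ V by show g v ∈ V; rw [hv]; exact fieldPt_mem hV C _) (g ⁻¹ᵁ V).2
  obtain ⟨q, rfl⟩ : v ∈ Set.range hW.fromSpec := by rw [hW.range_fromSpec]; exact hvW
  let a : Γ(X, V) ⟶ Γ(U, W) := g.appLE V W hWV
  have hae : a.hom.Etale :=
    HasRingHomProperty.appLE @Etale g inferInstance ⟨V, hV⟩ ⟨W, hW⟩ hWV
  let P : Ideal Γ(X, V) := RingHom.ker (algebraMap Γ(X, V) C)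
  haveI : P.IsPrime := RingHom.ker_isPrime _
  let Q : Ideal Γ(U, W) := (q : PrimeSpectrum Γ(U, W)).asIdeal
  letI := a.hom.toAlgebra
  haveI : Algebra.Etale Γ(X, V) Γ(U, W) := hae
  haveI : Q.LiesOver P := ⟨by
    have hpt : Spec.map a q = Spec.map (CommRingCat.ofHom (algebraMap Γ(X, V) C))
        (IsLocalRing.closedPoint C) := by
      apply hV.fromSpec.isOpenEmbedding.injective
      rw [← Scheme.Hom.comp_apply, hV.SpecMap_appLE_fromSpec g hW]
      exact hv
    have := congrArg (fun p : Spec Γ(X, V) ↦ (p : PrimeSpectrum Γ(X, V)).asIdeal) hpt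
    refine Eq.trans ?_ this.symm
    show RingHom.ker (algebraMap Γ(X, V) C) =
      (IsLocalRing.maximalIdeal C).comap (algebraMap Γ(X, V) C)
    rw [IsLocalRing.isField_iff_maximalIdeal_eq.mp (Field.toIsField C)]
    rfl⟩
  letI : Algebra P.ResidueField C :=
    (Ideal.ResidueField.lift P (algebraMap Γ(X, V) C) le_rfl fun r hr ↦
      Ne.isUnit (show algebraMap Γ(X, V) C r ≠ 0 from hr)).toAlgebra
  letI := Localization.AtPrime.algebraOfLiesOver P Q
  let σ : Q.ResidueField →ₐ[P.ResidueField] C := IsSepClosed.lift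
  let ψ : Γ(U, W) →+* C := σ.toRingHom.comp (algebraMap Γ(U, W) Q.ResidueField)
  refine ⟨Spec.map (CommRingCat.ofHom ψ) ≫ hW.fromSpec, ?_, ?_⟩
  · rw [Category.assoc, ← hV.SpecMap_appLE_fromSpec g hW, ← Category.assoc, ← Spec.map_comp,
      fieldPt]
    congr 2
    ext r
    show σ (algebraMap Γ(U, W) Q.ResidueField (algebraMap Γ(X, V) Γ(U, W) r)) = _
    rw [← IsScalarTower.algebraMap_apply, IsScalarTower.algebraMap_apply Γ(X, V) P.ResidueField,
      σ.commutes]
    exact Ideal.ResidueField.lift_algebraMap ..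
  · rw [Scheme.Hom.comp_apply]
    refine congrArg hW.fromSpec (PrimeSpectrum.ext ?_)
    show (IsLocalRing.maximalIdeal C).comap ψ = Q
    rw [IsLocalRing.isField_iff_maximalIdeal_eq.mp (Field.toIsField C)]
    ext x
    show σ (algebraMap Γ(U, W) Q.ResidueField x) = 0 ↔ _
    rw [map_eq_zero, Ideal.algebraMap_residueField_eq_zero]

end GrothLib.BrnchNhd
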