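import Groth.Agent.Lib.BrnchNhd.HullLoc
import Groth.Agent.Lib.BrnchNhd.Scheme
import Groth.Agent.Lib.Hensel.Branches
import Groth.Agent.Lib.Hensel.Unibranch
import Groth.Prelude.Def_Hens2

/-! # Branches of a scheme at a point through étale neighbourhoods -/

set_option backward.isDefEq.respectTransparency false

universe u

open CategoryTheory AlgebraicGeometry Polynomial

namespace GrothLib.BrnchNhd

open GrothLib.Hensel

theorem comap_mem_minimalPrimes {A B : Type*} [CommRing A] [CommRing B] (e : A ≃+* B) {P : Ideal B}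
    (h : P ∈ minimalPrimes B) : P.comap e.toRingHom ∈ minimalPrimes A := by
  refine ⟨⟨h.1.1.comap _, bot_le⟩, fun q hq hle ↦ ?_⟩
  have hqp : (q.comap e.symm.toRingHom).IsPrime := hq.1.comap _
  have hle' : q.comap e.symm.toRingHom ≤ P := fun y hy ↦ by
    have : e (e.symm y) ∈ P := hle hy
    rwa [e.apply_symm_apply] at this
  intro x hx
  have : e.symm (e x) ∈ q := h.2 ⟨hqp, bot_le⟩ hle' hx
  rwa [e.symm_apply_apply] at this

/-- Points in a separable extension of the residue field come from étale algebras over the ring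
before localization. -/
theorem proj_surjective_of_localization {R A C : Type u} [CommRing R] [CommRing A] [IsLocalRing A]
    [Algebra R A] (M : Submonoid R) [IsLocalization M A] [Field C] [Algebra R C] [Algebra A C]
    [IsScalarTower R A C] [Algebra (IsLocalRing.ResidueField A) C]
    [IsScalarTower A (IsLocalRing.ResidueField A) C]
    [Algebra.IsSeparable (IsLocalRing.ResidueField A) C] :
    Function.Surjective (Hull.proj : Hull R C →ₐ[R] C) := by
  classical
  refine Hull.proj_surjective fun c ↦ ?_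
  have hsep : IsSeparable (IsLocalRing.ResidueField A) c := Algebra.IsSeparable.isSeparable _ c
  set g := minpoly (IsLocalRing.ResidueField A) c
  obtain ⟨f, hf, -, hfm⟩ := lifts_and_degree_eq_and_monic
    ((Polynomial.map_surjective (IsLocalRing.residue A) IsLocalRing.residue_surjective g) |>
      fun ⟨f, hf⟩ ↦ (⟨f, hf⟩ : g ∈ Polynomial.lifts (IsLocalRing.residue A)))
    (minpoly.monic hsep.isIntegral)
  obtain ⟨⟨b, hb⟩, hbc⟩ := IsLocalization.exist_integer_multiples_of_finset M f.coeffs
  let Rb := Localization.Away b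
  let ρ : Rb →ₐ[R] A := IsLocalization.Away.liftAlgHom b (f := Algebra.ofId R A)
    (IsLocalization.map_units A ⟨b, hb⟩)
  have hlift : f ∈ Polynomial.lifts ρ.toRingHom := by
    rw [Polynomial.lifts_iff_coeff_lifts]
    intro n
    by_cases h : f.coeff n = 0
    · exact ⟨0, by rw [h]; exact map_zero ρ⟩
    · obtain ⟨r, hr⟩ := hbc _ (Polynomial.coeff_mem_coeffs h)
      have hu := IsLocalization.Away.algebraMap_isUnit (S := Rb) b
      refine ⟨↑hu.unit⁻¹ * algebraMap R Rb r, ?_⟩
      refine (hu.map ρ).mul_left_cancel ?_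
      show ρ _ * ρ (_ * _) = _
      rw [← map_mul, ← mul_assoc, IsUnit.mul_val_inv, one_mul, AlgHom.commutes, hr,
        AlgHom.commutes, ← Algebra.smul_def]
  obtain ⟨f', hf', -, hfm'⟩ := lifts_and_degree_eq_and_monic hlift hfm
  letI : Algebra Rb C := ((algebraMap A C).comp ρ.toRingHom).toAlgebra
  haveI : IsScalarTower R Rb C := .of_algebraMap_eq fun r ↦ by
    show _ = algebraMap A C (ρ (algebraMap R Rb r))
    rw [ρ.commutes, ← IsScalarTower.algebraMap_apply]
  haveI : Algebra.Etale R Rb := Algebra.Etale.of_isLocalizationAway b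
  let P := simpleRootPair f' hfm'
  have hev : ∀ q : Rb[X], aeval c q =
      aeval c ((q.map ρ.toRingHom).map (IsLocalRing.residue A)) := fun q ↦ by
    rw [show IsLocalRing.residue A = algebraMap A (IsLocalRing.ResidueField A) from rfl,
      aeval_map_algebraMap, aeval_def, aeval_def, eval₂_map]
    rfl
  have hmap : P.HasMap c := by
    refine ⟨?_, ?_⟩
    · rw [hev]
      show aeval c ((f'.map ρ.toRingHom).map (IsLocalRing.residue A)) = 0
      rw [hf', hf]; exact minpoly.aeval _ _
    · rw [hev]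
      show IsUnit (aeval c ((f'.derivative.map ρ.toRingHom).map (IsLocalRing.residue A)))
      rw [← derivative_map, hf', ← derivative_map, hf]
      exact (hsep.aeval_derivative_ne_zero (minpoly.aeval _ _)).isUnit
  letI : Algebra R P.Ring := ((algebraMap Rb P.Ring).comp (algebraMap R Rb)).toAlgebra
  haveI : IsScalarTower R Rb P.Ring := .of_algebraMap_eq fun _ ↦ rfl
  haveI : Algebra.Etale R P.Ring := Algebra.Etale.comp R Rb _
  let φ : P.Ring →ₐ[R] C := (P.lift c hmap).restrictScalars R
  refine ⟨Nbhd.ofEtale P.Ring φ, Nbhd.ofEtaleEquiv P.Ring φ P.X, ?_⟩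
  exact (AlgHom.congr_fun (Nbhd.ofEtale_pt P.Ring φ) P.X).trans (P.lift_X _ hmap)

/-- The branch numbers of a point via étale neighbourhoods with a lifted field valued point. -/
theorem card_minimalPrimes_stalkHull {X : Scheme.{u}} (x : X) (C : Type u) [Field C]
    [Algebra (X.presheaf.stalk x) C] [Algebra (IsLocalRing.ResidueField (X.presheaf.stalk x)) C]
    [IsScalarTower (X.presheaf.stalk x) (IsLocalRing.ResidueField (X.presheaf.stalk x)) C]
    [Algebra.IsSeparable (IsLocalRing.ResidueField (X.presheaf.stalk x)) C] :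
    ∃ p : Spec (CommRingCat.of C) ⟶ X,
      p = Spec.map (CommRingCat.ofHom
        (algebraMap (IsLocalRing.ResidueField (X.presheaf.stalk x)) C)) ≫
          X.fromSpecResidueField x ∧
      (ENat.card (minimalPrimes (Hull (X.presheaf.stalk x) C)) =
        ⨆ (U : Scheme.{u}) (g : U ⟶ X) (s : Spec (CommRingCat.of C) ⟶ U)
          (_ : Etale g ∧ s ≫ g = p),
          {Z : Set U | Z ∈ irreducibleComponents U ∧ s (IsLocalRing.closedPoint C) ∈ Z}.encard) ∧
      (IsSepClosed C → ∀ {U : Scheme.{u}} (g : U ⟶ X), Etale g → ∀ v : U, g v = x →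
        ∃ s : Spec (CommRingCat.of C) ⟶ U, s ≫ g = p ∧ s (IsLocalRing.closedPoint C) = v) := by
  obtain ⟨_, ⟨V, hV, rfl⟩, hxV, -⟩ :=
    X.isBasis_affineOpens.exists_subset_of_mem_open (Set.mem_univ x) isOpen_univ
  letI : Algebra Γ(X, V) (X.presheaf.stalk x) := X.presheaf.algebra_section_stalk ⟨x, hxV⟩
  haveI := hV.isLocalization_stalk ⟨x, hxV⟩
  letI : Algebra Γ(X, V) C :=
    ((algebraMap (X.presheaf.stalk x) C).comp (algebraMap Γ(X, V) (X.presheaf.stalk x))).toAlgebra
  haveI : IsScalarTower Γ(X, V) (X.presheaf.stalk x) C := .of_algebraMap_eq fun _ ↦ rfl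
  have hp : fieldPt hV C = Spec.map (CommRingCat.ofHom
      (algebraMap (IsLocalRing.ResidueField (X.presheaf.stalk x)) C)) ≫
        X.fromSpecResidueField x := by
    show _ = _ ≫ (Spec.map (X.residue x) ≫ X.fromSpecStalk x)
    rw [← hV.fromSpecStalk_eq_fromSpecStalk hxV, IsAffineOpen.fromSpecStalk, fieldPt,
      ← Category.assoc, ← Category.assoc, ← Spec.map_comp, ← Spec.map_comp]
    congr 2
    ext r
    exact IsScalarTower.algebraMap_apply (X.presheaf.stalk x)
      (IsLocalRing.ResidueField (X.presheaf.stalk x)) C _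
  obtain ⟨e⟩ := exists_hull_localization_equiv (R := Γ(X, V)) (A := X.presheaf.stalk x) (C := C)
    (hV.primeIdealOf ⟨x, hxV⟩).asIdeal.primeCompl
    (Hull.proj_surjective FieldHull.exists_nbhd_of_isSeparable)
    (proj_surjective_of_localization (hV.primeIdealOf ⟨x, hxV⟩).asIdeal.primeCompl
      (A := X.presheaf.stalk x))
  refine ⟨_, rfl, ?_, fun hC U g hg v hv ↦ ?_⟩
  · rw [← hp, ← card_minimalPrimes_hull_eq_iSup hV C]
    exact ENat.card_congr
      { toFun := fun P ↦ ⟨P.1.comap e.symm.toRingHom, comap_mem_minimalPrimes e.symm P.2⟩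
        invFun := fun P ↦ ⟨P.1.comap e.toRingHom, comap_mem_minimalPrimes e P.2⟩
        left_inv := fun P ↦ Subtype.ext (by ext y; show e.symm (e y) ∈ P.1 ↔ y ∈ P.1; simp)
        right_inv := fun P ↦ Subtype.ext (by ext y; show e (e.symm y) ∈ P.1 ↔ y ∈ P.1; simp) }
  · rw [← hp]
    refine exists_lift_fieldPt hV C g v ?_
    rw [hp, hv, Scheme.Hom.comp_apply]
    exact (Scheme.fromSpecResidueField_apply ..).symm

end GrothLib.BrnchNhd
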