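import Groth.Agent.Lib.Hensel.LocalHull
import Mathlib.RingTheory.Unramified.Finite
import Mathlib.RingTheory.Flat.FaithfullyFlat.Algebra
import Mathlib.RingTheory.Ideal.GoingDown
import Mathlib.Order.ConditionallyCompleteLattice.Basic
import Mathlib.Data.Set.Card
import Mathlib.Data.ENat.Lattice

/-! # Minimal primes of a hull as a supremum over étale neighbourhoods -/

set_option backward.isDefEq.respectTransparency false

universe u

namespace GrothLib.BrnchNhd

open GrothLib.Hensel IsLocalRing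

variable {R C : Type u} [CommRing R] [Field C] [Algebra R C]

/-- The branches of an étale neighbourhood through its point. -/
def branchSet (N : Nbhd R C) : Set (Ideal N.Ring) :=
  {p | p ∈ minimalPrimes N.Ring ∧ p ≤ RingHom.ker N.pt.toRingHom}

theorem flat_ι (N : Nbhd R C) : (Hull.ι N).toRingHom.Flat := by
  algebraize [(Hull.ι N).toRingHom]
  haveI : IsScalarTower R N.Ring (Hull R C) := ⟨fun r a h ↦ by
    show Hull.ι N (r • a) * h = r • (Hull.ι N a * h)
    rw [map_smul, smul_mul_assoc]⟩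
  exact Algebra.FormallyUnramified.flat_of_restrictScalars R N.Ring (Hull R C)

theorem comap_ι_mem_branchSet (N : Nbhd R C) {P : Ideal (Hull R C)}
    (hP : P ∈ minimalPrimes (Hull R C)) : P.comap (Hull.ι N).toRingHom ∈ branchSet N := by
  have := hP.1.1
  have hf := flat_ι N
  algebraize [(Hull.ι N).toRingHom]
  have hPle : P ≤ RingHom.ker (Hull.proj : Hull R C →ₐ[R] C).toRingHom := by
    intro x hx
    by_contra h
    exact hP.1.1.ne_top (Ideal.eq_top_of_isUnit_mem _ hx
      (Hull.isUnit_of_isUnit_proj (Ne.isUnit h)))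
  refine ⟨⟨⟨hP.1.1.comap _, bot_le⟩, fun q hq hle ↦ ?_⟩, fun x hx ↦ ?_⟩
  · haveI := hq.1
    haveI : P.LiesOver (P.comap (algebraMap N.Ring (Hull R C))) := ⟨rfl⟩
    obtain ⟨Q, hQ, hQp, hQo⟩ := Ideal.exists_ideal_le_liesOver_of_le (p := q)
      (q := P.comap (algebraMap N.Ring (Hull R C))) P hle
    have : P ≤ Q := hP.2 ⟨hQp, bot_le⟩ hQ
    rw [hQo.over]
    exact Ideal.comap_mono this
  · have : Hull.proj (Hull.ι N x) = 0 := hPle hx
    rwa [Hull.proj_ι] at this

theorem exists_comap_ι_eq (N : Nbhd R C) {p : Ideal N.Ring} (hp : p ∈ branchSet N) :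
    ∃ P ∈ minimalPrimes (Hull R C), P.comap (Hull.ι N).toRingHom = p := by
  obtain ⟨hpm, hple⟩ := hp
  have := hpm.1.1
  have hf := flat_ι N
  algebraize [(Hull.ι N).toRingHom]
  let M : Ideal (Hull R C) := RingHom.ker (Hull.proj : Hull R C →ₐ[R] C).toRingHom
  haveI : M.IsPrime := RingHom.ker_isPrime _
  haveI : (RingHom.ker N.pt.toRingHom).IsPrime := RingHom.ker_isPrime _
  haveI : M.LiesOver (RingHom.ker N.pt.toRingHom) :=
    ⟨by ext x; show N.pt x = 0 ↔ Hull.proj (Hull.ι N x) = 0; rw [Hull.proj_ι]⟩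
  obtain ⟨Q, -, hQp, hQo⟩ := Ideal.exists_ideal_le_liesOver_of_le (p := p)
    (q := RingHom.ker N.pt.toRingHom) M hple
  obtain ⟨P, hP, hPQ⟩ := Ideal.exists_minimalPrimes_le (bot_le : ⊥ ≤ Q)
  refine ⟨P, hP, ?_⟩
  have hle : P.comap (Hull.ι N).toRingHom ≤ p := by
    rw [hQo.over]; exact Ideal.comap_mono hPQ
  exact le_antisymm hle (hpm.2 ⟨hP.1.1.comap _, bot_le⟩ hle)

theorem encard_branchSet_le (N : Nbhd R C) :
    (branchSet N).encard ≤ ENat.card (minimalPrimes (Hull R C)) := by
  show ENat.card (branchSet N) ≤ _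
  choose f hf hf' using fun p : branchSet N ↦ exists_comap_ι_eq N p.2
  exact ENat.card_le_card_of_injective (f := fun p ↦ (⟨f p, hf p⟩ : minimalPrimes (Hull R C)))
    fun p q h ↦ Subtype.ext (by rw [← hf' p, ← hf' q, show f p = f q from congrArg Subtype.val h])

/-- If a family of stages catches every finite family of the hull, it suffices to count there. -/
theorem card_minimalPrimes_hull_of_stages {σ : Type*} (T : σ → Nbhd R C)
    (hT : ∀ {ι : Type u} [Finite ι] (x : ι → Hull R C),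
      ∃ (j : σ) (a : ι → (T j).Ring), ∀ i, Hull.ι (T j) (a i) = x i) :
    ENat.card (minimalPrimes (Hull R C)) = ⨆ j, (branchSet (T j)).encard := by
  classical
  refine le_antisymm (ENat.forall_natCast_le_iff_le.mp fun n hn ↦ ?_)
    (iSup_le fun j ↦ encard_branchSet_le (T j))
  have hn' : (n : ℕ∞) ≤ (Set.univ : Set (minimalPrimes (Hull R C))).encard := by
    rwa [Set.encard_univ]
  obtain ⟨t, -, ht⟩ := Set.exists_subset_encard_eq hn'
  haveI : Fintype t := (Set.finite_of_encard_eq_coe ht).fintype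
  let I := {pq : t × t // pq.1 ≠ pq.2}
  have hsep : ∀ i : I, ∃ x : Hull R C, x ∈ i.1.1.1.1 ∧ x ∉ i.1.2.1.1 := fun i ↦ by
    refine Set.not_subset.mp fun h ↦ i.2 ?_
    have h1 := i.1.2.1.2.2 ⟨i.1.1.1.2.1.1, bot_le⟩ h
    exact Subtype.ext (Subtype.ext (le_antisymm h h1))
  choose x hx hx' using hsep
  obtain ⟨j, a, ha⟩ := hT x
  refine le_iSup_of_le j ?_
  rw [← ht]
  let f : t → branchSet (T j) := fun P ↦ ⟨_, comap_ι_mem_branchSet (T j) P.1.2⟩
  have hf : Function.Injective f := fun P Q h ↦ by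
    by_contra hne
    have h' : P.1.1.comap (Hull.ι (T j)).toRingHom = Q.1.1.comap (Hull.ι (T j)).toRingHom :=
      congrArg Subtype.val h
    have h1 : a ⟨(P, Q), hne⟩ ∈ P.1.1.comap (Hull.ι (T j)).toRingHom := by
      show Hull.ι (T j) (a _) ∈ P.1.1
      rw [ha]; exact hx ⟨(P, Q), hne⟩
    rw [h'] at h1
    have h2 : Hull.ι (T j) (a ⟨(P, Q), hne⟩) ∈ Q.1.1 := h1
    rw [ha] at h2
    exact hx' ⟨(P, Q), hne⟩ h2
  exact ENat.card_le_card_of_injective hf

/-- The number of minimal primes of the hull is the supremum of the numbers of branches of its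
stages. -/
theorem card_minimalPrimes_hull :
    ENat.card (minimalPrimes (Hull R C)) = ⨆ N : Nbhd R C, (branchSet N).encard :=
  card_minimalPrimes_hull_of_stages id fun x ↦ Hull.exists_ι_family x

end GrothLib.BrnchNhd
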